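import Cfsg.Prelude.Def_LieRecognition

/-!
Elements of odd order: square roots, and the decomposition of an odd-order subgroup under
one involution, or under two commuting involutions.
-/

set_option autoImplicit false

namespace CfsgLib.RankOneInvol

variable {M : Type*} [Group M]

/-- an element of odd order is the square of one of its powers -/
lemma exists_pow_sq_eq {w : M} (hw : Odd (orderOf w)) : ∃ k : ℕ, w ^ k * w ^ k = w := by
  obtain ⟨j, hj⟩ := hw
  refine ⟨j + 1, ?_⟩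
  have h : w ^ (2 * j + 1) = 1 := by rw [← hj]; exact pow_orderOf_eq_one w
  rw [← pow_add, show j + 1 + (j + 1) = 2 * j + 1 + 1 by ring, pow_succ, h, one_mul]

lemma sq_injective_of_odd {x y : M} (hx : Odd (orderOf x)) (hy : Odd (orderOf y))
    (h : x * x = y * y) : x = y := by
  obtain ⟨j, hj⟩ := hx.mul hy
  have hx1 : x ^ (2 * j + 1) = 1 := by
    rw [← hj]; exact orderOf_dvd_iff_pow_eq_one.1 (dvd_mul_right _ _)
  have hy1 : y ^ (2 * j + 1) = 1 := by
    rw [← hj]; exact orderOf_dvd_iff_pow_eq_one.1 (dvd_mul_left _ _)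
  have hx2 : (x * x) ^ (j + 1) = x := by
    rw [← pow_two, ← pow_mul, show 2 * (j + 1) = 2 * j + 1 + 1 by ring, pow_succ, hx1, one_mul]
  have hy2 : (y * y) ^ (j + 1) = y := by
    rw [← pow_two, ← pow_mul, show 2 * (j + 1) = 2 * j + 1 + 1 by ring, pow_succ, hy1, one_mul]
  rw [← hx2, h, hy2]

lemma odd_orderOf_of_mem {X : Subgroup M} (hX : Odd (Nat.card X)) {x : M} (hx : x ∈ X) :
    Odd (orderOf x) := by
  have h : orderOf (⟨x, hx⟩ : X) ∣ Nat.card X := orderOf_dvd_natCard _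
  rw [← Subgroup.orderOf_coe] at h
  exact hX.of_dvd_nat h

lemma eq_one_of_sq_of_odd {x : M} (hx : Odd (orderOf x)) (h : x * x = 1) : x = 1 :=
  sq_injective_of_odd hx (by simp [orderOf_one]) (by rw [h, one_mul])

lemma eq_one_of_mem_of_sq {X : Subgroup M} (hX : Odd (Nat.card X)) {x : M} (hx : x ∈ X)
    (h : x * x = 1) : x = 1 :=
  eq_one_of_sq_of_odd (odd_orderOf_of_mem hX hx) h

lemma sq_inj_mem {X : Subgroup M} (hX : Odd (Nat.card X)) {x y : M} (hx : x ∈ X) (hy : y ∈ X)
    (h : x * x = y * y) : x = y :=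
  sq_injective_of_odd (odd_orderOf_of_mem hX hx) (odd_orderOf_of_mem hX hy) h

lemma exists_sqrt_mem {X : Subgroup M} (hX : Odd (Nat.card X)) {w : M} (hw : w ∈ X) :
    ∃ z ∈ X, z * z = w := by
  obtain ⟨k, hk⟩ := exists_pow_sq_eq (odd_orderOf_of_mem hX hw)
  exact ⟨w ^ k, pow_mem hw k, hk⟩

lemma odd_orderOf_conj {x : M} (hx : Odd (orderOf x)) (g : M) : Odd (orderOf (g * x * g⁻¹)) := by
  have h := orderOf_injective (MulAut.conj g).toMonoidHom (MulAut.conj g).injective x
  simp only [MulEquiv.coe_toMonoidHom, MulAut.conj_apply] at h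
  rwa [h]

/-- In a group of odd order only `1` is conjugate to its inverse. -/
lemma eq_one_of_conj_eq_inv {g x : M} (hg : Odd (orderOf g)) (hx : Odd (orderOf x))
    (h : g * x * g⁻¹ = x⁻¹) : x = 1 := by
  obtain ⟨k, hk⟩ := exists_pow_sq_eq hg
  have h2 : Commute (g * g) x := by
    show g * g * x = x * (g * g)
    calc g * g * x = g * (g * x * g⁻¹) * g := by group
      _ = g * x⁻¹ * g := by rw [h]
      _ = (g * x * g⁻¹)⁻¹ * (g * g) := by group
      _ = x * (g * g) := by rw [h, inv_inv]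
  have h4 : Commute g x := by
    have h5 := h2.pow_left k
    have e : (g * g) ^ k = g := by
      rw [(Commute.refl g).mul_pow, hk]
    rwa [e] at h5
  refine eq_one_of_sq_of_odd hx ?_
  have h6 : x = x⁻¹ := by
    calc x = g * x * g⁻¹ := by rw [h4.eq, mul_inv_cancel_right]
      _ = x⁻¹ := h
  nth_rw 1 [h6]
  exact inv_mul_cancel x

section OneInvolution

variable {X : Subgroup M} {t : M}

/-- `x = y * z` with `y` fixed and `z` inverted by an involution normalising an odd-order subgroup -/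
lemma exists_fixed_mul_inverted (hX : Odd (Nat.card X)) (ht : t * t = 1)
    (hn : ∀ x ∈ X, t * x * t ∈ X) {x : M} (hx : x ∈ X) :
    ∃ y z : M, y ∈ X ∧ t * y * t = y ∧ z ∈ X ∧ t * z * t = z⁻¹ ∧ x = y * z := by
  have ti : t⁻¹ = t := inv_eq_of_mul_eq_one_right ht
  have hw : (t * x * t)⁻¹ * x ∈ X := X.mul_mem (X.inv_mem (hn x hx)) hx
  obtain ⟨z, hz, hzz⟩ := exists_sqrt_mem hX hw
  have hwt : t * ((t * x * t)⁻¹ * x) * t = ((t * x * t)⁻¹ * x)⁻¹ := by
    simp only [mul_inv_rev, ti, inv_inv, mul_assoc]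
    rw [← mul_assoc t t, ht, one_mul]
  have hzi : t * z * t = z⁻¹ := by
    apply sq_inj_mem hX (hn z hz) (X.inv_mem hz)
    calc t * z * t * (t * z * t) = t * (z * (t * t) * z) * t := by group
      _ = t * ((t * x * t)⁻¹ * x) * t := by rw [ht, mul_one, hzz]
      _ = ((t * x * t)⁻¹ * x)⁻¹ := hwt
      _ = (z * z)⁻¹ := by rw [hzz]
      _ = z⁻¹ * z⁻¹ := mul_inv_rev z z
  refine ⟨x * z⁻¹, z, X.mul_mem hx (X.inv_mem hz), ?_, hz, hzi, by group⟩
  have h2 : t * z⁻¹ * t = z := by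
    have h3 := congrArg (·⁻¹) hzi
    simpa [mul_inv_rev, ti, mul_assoc] using h3
  calc t * (x * z⁻¹) * t = t * x * (t * t) * z⁻¹ * t := by rw [ht]; group
    _ = (t * x * t) * (t * z⁻¹ * t) := by group
    _ = (t * x * t) * z := by rw [h2]
    _ = (t * x * t) * (z * z) * z⁻¹ := by group
    _ = x * z⁻¹ := by rw [hzz]; group

lemma fixed_mul_inverted_unique (hX : Odd (Nat.card X)) (ht : t * t = 1)
    {y y' z z' : M} (hy : t * y * t = y) (hz : z ∈ X) (hzt : t * z * t = z⁻¹)
    (hy' : t * y' * t = y') (hz' : z' ∈ X) (hzt' : t * z' * t = z'⁻¹)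
    (h : y * z = y' * z') : y = y' ∧ z = z' := by
  have e : ∀ y z : M, t * y * t = y → t * z * t = z⁻¹ → z * z = (t * (y * z) * t)⁻¹ * (y * z) := by
    intro y z hy hzt
    have h1 : t * (y * z) * t = y * z⁻¹ := by
      calc t * (y * z) * t = t * y * (t * t) * z * t := by rw [ht]; group
        _ = (t * y * t) * (t * z * t) := by group
        _ = y * z⁻¹ := by rw [hy, hzt]
    rw [h1]; group
  have hzz : z = z' := by
    apply sq_inj_mem hX hz hz'
    rw [e y z hy hzt, e y' z' hy' hzt', h]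
  subst hzz
  exact ⟨mul_right_cancel h, rfl⟩

end OneInvolution

/-- A subgroup of odd order normalised by two commuting involutions `x`, `y` lies in any subgroup
containing the fixed points of `x`, of `y` and of `x * y` in it. -/
lemma le_of_fourGroup_fixed {X L : Subgroup M} (hX : Odd (Nat.card X)) {x y : M} (hx : x * x = 1)
    (hy : y * y = 1) (hxy : x * y = y * x) (hnx : ∀ w ∈ X, x * w * x ∈ X)
    (hny : ∀ w ∈ X, y * w * y ∈ X) (hLx : ∀ w ∈ X, x * w * x = w → w ∈ L)
    (hLy : ∀ w ∈ X, y * w * y = w → w ∈ L)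
    (hLxy : ∀ w ∈ X, (x * y) * w * (x * y) = w → w ∈ L) : X ≤ L := by
  have key : ∀ w ∈ X, x * w * x = w⁻¹ → w ∈ L := by
    intro w hw hwx
    have hw' : y * w * y ∈ X := hny w hw
    obtain ⟨l, hl, hll⟩ := exists_sqrt_mem hX (X.inv_mem hw)
    have hll' : l * (y * w * y) * l ∈ X := X.mul_mem (X.mul_mem hl hw') hl
    obtain ⟨μ, hμ, hμμ⟩ := exists_sqrt_mem hX hll'
    have hm : l⁻¹ * μ * l⁻¹ ∈ X := X.mul_mem (X.mul_mem (X.inv_mem hl) hμ) (X.inv_mem hl)
    generalize hmdef : l⁻¹ * μ * l⁻¹ = m at hm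
    have hmeq : m * w⁻¹ * m = y * w * y := by
      calc m * w⁻¹ * m = l⁻¹ * (μ * μ) * l⁻¹ := by rw [← hmdef, ← hll]; group
        _ = y * w * y := by rw [hμμ]; group
    have huniq : ∀ n ∈ X, n * w⁻¹ * n = y * w * y → n = m := by
      intro n hn hneq
      have : l * n * l = l * m * l := by
        apply sq_inj_mem hX (X.mul_mem (X.mul_mem hl hn) hl) (X.mul_mem (X.mul_mem hl hm) hl)
        calc l * n * l * (l * n * l) = l * (n * (l * l) * n) * l := by group
          _ = l * (m * (l * l) * m) * l := by rw [hll, hneq, hmeq]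
          _ = l * m * l * (l * m * l) := by group
      exact mul_left_cancel (mul_right_cancel this)
    have hym : y * m * y = m := by
      apply huniq _ (hny m hm)
      have e1 : (y * w * y) = m * w⁻¹ * m := hmeq.symm
      have e2 : m * (y * w * y)⁻¹ * m = w := by rw [e1]; group
      have hyi : y⁻¹ = y := inv_eq_of_mul_eq_one_right hy
      calc y * m * y * w⁻¹ * (y * m * y) = y * (m * (y⁻¹ * w⁻¹ * y⁻¹) * m) * y := by
            rw [hyi]; group
        _ = y * (m * (y * w * y)⁻¹ * m) * y := by group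
        _ = y * w * y := by rw [e2]
    have hxm : x * m * x = m⁻¹ := by
      have h1 : (x * m * x)⁻¹ = m := by
        apply huniq _ (X.inv_mem (hnx m hm))
        have hxi : x⁻¹ = x := inv_eq_of_mul_eq_one_right hx
        have hwx' : x * w⁻¹ * x = w := by
          have := congrArg (·⁻¹) hwx
          simpa [mul_inv_rev, hxi, mul_assoc] using this
        have hyx : y * x = x * y := hxy.symm
        calc (x * m * x)⁻¹ * w⁻¹ * (x * m * x)⁻¹
            = (x * m⁻¹ * x) * w⁻¹ * (x * m⁻¹ * x) := by simp [mul_inv_rev, hxi, mul_assoc]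
          _ = x * (m⁻¹ * (x * w⁻¹ * x) * m⁻¹) * x := by group
          _ = x * (m⁻¹ * w * m⁻¹) * x := by rw [hwx']
          _ = x * (m * w⁻¹ * m)⁻¹ * x := by group
          _ = x * (y * w * y)⁻¹ * x := by rw [hmeq]
          _ = x * y⁻¹ * w⁻¹ * y⁻¹ * x := by group
          _ = (x * y) * w⁻¹ * (y * x) := by rw [inv_eq_of_mul_eq_one_right hy]; group
          _ = (y * x) * w⁻¹ * (x * y) := by rw [hxy]
          _ = y * (x * w⁻¹ * x) * y := by group
          _ = y * w * y := by rw [hwx']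
      rw [← h1, inv_inv, h1]
    obtain ⟨c, hc, hcc⟩ := exists_sqrt_mem hX hm
    have hyc : y * c * y = c := by
      apply sq_inj_mem hX (hny c hc) hc
      calc y * c * y * (y * c * y) = y * (c * (y * y) * c) * y := by group
        _ = c * c := by rw [hy, mul_one, hcc, hym]
    have hxc : x * c * x = c⁻¹ := by
      apply sq_inj_mem hX (hnx c hc) (X.inv_mem hc)
      calc x * c * x * (x * c * x) = x * (c * (x * x) * c) * x := by group
        _ = c⁻¹ * c⁻¹ := by rw [hx, mul_one, hcc, hxm, ← hcc, mul_inv_rev]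
    have hyi : y⁻¹ = y := inv_eq_of_mul_eq_one_right hy
    have hxi : x⁻¹ = x := inv_eq_of_mul_eq_one_right hx
    have hb : c⁻¹ * w * c⁻¹ ∈ X := X.mul_mem (X.mul_mem (X.inv_mem hc) hw) (X.inv_mem hc)
    have hxb : x * (c⁻¹ * w * c⁻¹) * x = (c⁻¹ * w * c⁻¹)⁻¹ := by
      have hxc' : x * c⁻¹ * x = c := by
        have := congrArg (·⁻¹) hxc
        simpa [mul_inv_rev, hxi, mul_assoc] using this
      calc x * (c⁻¹ * w * c⁻¹) * x = x * c⁻¹ * (x * x) * w * (x * x) * c⁻¹ * x := by rw [hx]; group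
        _ = (x * c⁻¹ * x) * (x * w * x) * (x * c⁻¹ * x) := by group
        _ = (c⁻¹ * w * c⁻¹)⁻¹ := by rw [hxc', hwx]; group
    have hyb : y * (c⁻¹ * w * c⁻¹) * y = (c⁻¹ * w * c⁻¹)⁻¹ := by
      have hyc' : y * c⁻¹ * y = c⁻¹ := by
        have := congrArg (·⁻¹) hyc
        simpa [mul_inv_rev, hyi, mul_assoc] using this
      calc y * (c⁻¹ * w * c⁻¹) * y = y * c⁻¹ * (y * y) * w * (y * y) * c⁻¹ * y := by rw [hy]; group
        _ = (y * c⁻¹ * y) * (y * w * y) * (y * c⁻¹ * y) := by group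
        _ = c⁻¹ * (m * w⁻¹ * m) * c⁻¹ := by rw [hyc', hmeq]
        _ = (c⁻¹ * w * c⁻¹)⁻¹ := by rw [← hcc]; group
    have hbL : c⁻¹ * w * c⁻¹ ∈ L := by
      apply hLxy _ hb
      calc x * y * (c⁻¹ * w * c⁻¹) * (x * y)
          = (x * y) * (c⁻¹ * w * c⁻¹) * (y * x) := by rw [hxy]
        _ = x * (y * (c⁻¹ * w * c⁻¹) * y) * x := by group
        _ = c⁻¹ * w * c⁻¹ := by
          rw [hyb]
          have := congrArg (·⁻¹) hxb
          simpa [mul_inv_rev, hxi, mul_assoc] using this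
    have hcL : c ∈ L := hLy c hc hyc
    have : w = c * (c⁻¹ * w * c⁻¹) * c := by group
    rw [this]
    exact L.mul_mem (L.mul_mem hcL hbL) hcL
  intro v hv
  obtain ⟨c, z, hc, hcx, hz, hzx, rfl⟩ := exists_fixed_mul_inverted hX hx hnx hv
  exact L.mul_mem (hLx c hc hcx) (key z hz hzx)

end CfsgLib.RankOneInvol
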