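import Cfsg.Agent.Lib.RankOneInvol.Involutions
import Cfsg.Agent.Lib.TransOdd.Image

/-!
The two-point stabiliser acting on the elementary abelian group of involutions of the point stabiliser.
-/

set_option autoImplicit false

namespace CfsgLib.RankOneInvol

open MulAction (stabilizer mem_stabilizer_iff)

variable {G Ω : Type*} [Group G] [Finite G] [MulAction G Ω] {a : Ω} {t : G} {Q : Subgroup G}

/-- structure of `D`: `K` is cyclic and normalised by `D`, and `C_D(t)` is cyclic modulo the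
centraliser of `K` -/
theorem invSet_structure (hS : Cfsg.IsRankOneSetup G Ω a t Q)
    (h2 : ∃ x y : G, x ≠ 1 ∧ y ≠ 1 ∧ x ≠ y ∧ x * x = 1 ∧ y * y = 1 ∧ x * y = y * x) :
    (∃ k0 ∈ twoPt G a t, ∀ k, k ∈ invSet G a t ↔ k ∈ Subgroup.zpowers k0) ∧
    (∀ d ∈ twoPt G a t, ∀ k ∈ invSet G a t, d * k * d⁻¹ ∈ invSet G a t) ∧
    (∃ v0 ∈ twoPt G a t, t * v0 * t = v0 ∧ ∀ v ∈ twoPt G a t, t * v * t = v →
      ∃ n : ℤ, ∀ k ∈ invSet G a t, k * (v * v0 ^ n) = (v * v0 ^ n) * k) := by
  classical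
  have hc : ∀ {x : G}, x • a = a → x * x = 1 → x ∈ Q ∧ ∀ y ∈ Q, x * y = y * x := fun {x} hxa hxx => by
    by_cases h1 : x = 1
    · subst h1; exact ⟨Q.one_mem, fun y _ => by rw [one_mul, mul_one]⟩
    · exact invol_central hS h2 (mem_invols.2 ⟨hxa, h1, hxx⟩)
  let I : Subgroup G :=
    { carrier := {x | x • a = a ∧ x * x = 1}
      one_mem' := ⟨one_smul G a, mul_one 1⟩
      mul_mem' := fun {x y} hx hy => ⟨by rw [mul_smul, hy.1, hx.1], by
        rw [(show Commute y x from ((hc hy.1 hy.2).2 x (hc hx.1 hx.2).1)).mul_mul_mul_comm x y,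
          hx.2, hy.2, mul_one]⟩
      inv_mem' := fun {x} hx => ⟨inv_smul_eq_iff.2 hx.1.symm, by rw [← mul_inv_rev, hx.2, inv_one]⟩ }
  letI : CommGroup I :=
    { (inferInstance : Group I) with
      mul_comm := fun x y => Subtype.ext ((hc x.2.1 x.2.2).2 y (hc y.2.1 y.2.2).1) }
  letI : DistribMulAction (twoPt G a t) (Additive I) :=
    { smul := fun d e => Additive.ofMul ⟨(d : G) * (Additive.toMul e : I) * (d : G)⁻¹,
        by
          have := (Additive.toMul e : I).2
          rw [mul_smul, mul_smul, inv_smul_eq_iff.2 d.2.1.symm, this.1]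
          exact d.2.1,
        by
          have := (Additive.toMul e : I).2
          calc _ = (d : G) * (((Additive.toMul e : I) : G) * (Additive.toMul e : I)) * (d : G)⁻¹ := by group
            _ = 1 := by rw [this.2]; group⟩
      one_smul := fun e => Additive.toMul.injective (Subtype.ext
        (show ((1 : twoPt G a t) : G) * _ * ((1 : twoPt G a t) : G)⁻¹ = _ by simp))
      mul_smul := fun x y e => Additive.toMul.injective (Subtype.ext
        (show ((x * y : twoPt G a t) : G) * _ * ((x * y : twoPt G a t) : G)⁻¹ = (x : G) * ((y : G) * _ * (y : G)⁻¹) * (x : G)⁻¹ by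
          simp [mul_assoc]))
      smul_zero := fun x => Additive.toMul.injective (Subtype.ext
        (show (x : G) * ((1 : I) : G) * (x : G)⁻¹ = 1 by simp))
      smul_add := fun x e e' => Additive.toMul.injective (Subtype.ext
        (show (x : G) * (((Additive.toMul e : I) : G) * (Additive.toMul e' : I)) * (x : G)⁻¹ =
          (x : G) * (Additive.toMul e : I) * (x : G)⁻¹ * ((x : G) * (Additive.toMul e' : I) * (x : G)⁻¹) by
          group)) }
  let τ : twoPt G a t ≃* twoPt G a t :=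
    { toFun := fun d => ⟨t * d * t, conj_t_twoPt hS d.2⟩
      invFun := fun d => ⟨t * d * t, conj_t_twoPt hS d.2⟩
      left_inv := fun d => Subtype.ext (conj_t_conj_t hS d)
      right_inv := fun d => Subtype.ext (conj_t_conj_t hS d)
      map_mul' := fun x y => Subtype.ext (conj_t_mul hS x y) }
  obtain ⟨s0, r0, h0⟩ := exists_paired_right hS (isSwap_t hS)
  obtain ⟨hs0a, hs01, hs02⟩ := mem_invols.1 h0.1
  let e0 : Additive I := Additive.ofMul ⟨s0, hs0a, hs02⟩
  have hcoe : ∀ (d : twoPt G a t), ((Additive.toMul (d • e0) : I) : G) = (d : G) * s0 * (d : G)⁻¹ :=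
    fun d => rfl
  have hext : ∀ x y : Additive I, ((Additive.toMul x : I) : G) = ((Additive.toMul y : I) : G) → x = y :=
    fun x y h => Additive.toMul.injective (Subtype.ext h)
  have htw : TransOdd.Twisted τ e0 := by
    refine ⟨hS.odd_card, fun e => hext _ _ ?_, fun h => hs01 (congrArg (fun x => ((Additive.toMul x : I) : G)) h),
      fun d => Subtype.ext (conj_t_conj_t hS d), fun e he => ?_, fun d => ?_⟩
    · rw [two_nsmul]
      exact (Additive.toMul e : I).2.2
    · obtain ⟨k, hk, hke⟩ := invols_eq_conj hS h0 (s' := ((Additive.toMul e : I) : G))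
        (mem_invols.2 ⟨(Additive.toMul e : I).2.1, fun h => he (hext _ _ h), (Additive.toMul e : I).2.2⟩)
      refine ⟨⟨k⁻¹, inv_mem ((mem_invSet hS).1 hk).1⟩, hext _ _ ?_⟩
      rw [hcoe, hke, inv_inv]
    · constructor
      · intro hd
        refine hext _ _ ?_
        rw [hcoe, (centralizer_base hS h0 d.2).2 (congrArg Subtype.val hd), mul_inv_cancel_right]
        rfl
      · intro hd
        refine Subtype.ext ((centralizer_base hS h0 d.2).1 ?_)
        exact mul_inv_eq_iff_eq_mul.1 ((hcoe d).symm.trans (congrArg (fun x => ((Additive.toMul x : I) : G)) hd))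
  obtain ⟨⟨k0, hk0⟩, hconj, ⟨v0, hv0, hv⟩, hw⟩ := htw.structure_image
  have hiff : ∀ d : twoPt G a t, τ d = d⁻¹ ↔ (d : G) ∈ invSet G a t := fun d => by
    rw [mem_invSet hS]
    exact ⟨fun h => ⟨d.2, congrArg Subtype.val h⟩, fun h => Subtype.ext h.2⟩
  refine ⟨⟨k0, k0.2, fun k => ⟨fun hk => ?_, fun hk => ?_⟩⟩, fun d hd k hk => ?_,
    v0, v0.2, congrArg Subtype.val ((htw.fix v0).2 hv0), fun v hvD hvt => ?_⟩
  · obtain ⟨n, hn⟩ := Subgroup.mem_zpowers_iff.1
      ((hk0 ⟨k, ((mem_invSet hS).1 hk).1⟩).1 ((hiff _).2 hk))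
    exact Subgroup.mem_zpowers_iff.2 ⟨n, (SubgroupClass.coe_zpow k0 n).symm.trans (congrArg Subtype.val hn)⟩
  · obtain ⟨n, rfl⟩ := Subgroup.mem_zpowers_iff.1 hk
    rw [← SubgroupClass.coe_zpow, ← hiff]
    exact (hk0 _).2 (Subgroup.zpow_mem_zpowers k0 n)
  · exact (hiff _).1 (hconj ⟨d, hd⟩ ⟨k, ((mem_invSet hS).1 hk).1⟩ ((hiff _).2 hk))
  · obtain ⟨n, hn⟩ := hv ⟨v, hvD⟩ ((htw.fix _).1 (Subtype.ext hvt))
    refine ⟨n, fun k hk => ?_⟩
    have := congrArg Subtype.val (hw _ ⟨k, ((mem_invSet hS).1 hk).1⟩ hn ((hiff _).2 hk))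
    simpa using this.symm

end CfsgLib.RankOneInvol
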