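import Cfsg.Agent.Lib.RankOneInvol.OddGroup

/-!
General properties of `Cfsg.IsRankOneSetup`: the regular subgroup `Q`, fixed points of
involutions, the set `K`, the bijection between the involutions of `G_a` and those exchanging
`a` and `t • a`, centralisers of subsets of `D`.
-/

set_option autoImplicit false

namespace CfsgLib.RankOneInvol

open MulAction (stabilizer mem_stabilizer_iff)

variable {G Ω : Type*} [Group G] [MulAction G Ω] {a : Ω} {t : G} {Q : Subgroup G}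

/-- the two-point stabiliser -/
abbrev twoPt (G : Type*) [Group G] {Ω : Type*} [MulAction G Ω] (a : Ω) (t : G) : Subgroup G :=
  stabilizer G a ⊓ stabilizer G (t • a)

/-- the elements of the two-point stabiliser inverted by `t` -/
abbrev invSet (G : Type*) [Group G] {Ω : Type*} [MulAction G Ω] (a : Ω) (t : G) : Set G :=
  Cfsg.invertedBy (twoPt G a t) t

lemma mem_twoPt {g : G} : g ∈ twoPt G a t ↔ g • a = a ∧ g • t • a = t • a := Iff.rfl

lemma conj_ne_one {x : G} (hx : x ≠ 1) (g : G) : g * x * g⁻¹ ≠ 1 := fun h => hx <| by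
  calc x = g⁻¹ * (g * x * g⁻¹) * g := by group
    _ = 1 := by rw [h]; group

lemma conj_ne_one' {x : G} (hx : x ≠ 1) (g : G) : g⁻¹ * x * g ≠ 1 := by
  simpa using conj_ne_one hx g⁻¹

variable (hS : Cfsg.IsRankOneSetup G Ω a t Q)
include hS

lemma t_inv : t⁻¹ = t := inv_eq_of_mul_eq_one_right hS.mul_self

lemma t_smul_smul (c : Ω) : t • t • c = c := by rw [smul_smul, hS.mul_self, one_smul]

lemma ta_ne : t • a ≠ a := hS.not_mem

lemma tt_cancel (g : G) : t * (t * g) = g := by rw [← mul_assoc, hS.mul_self, one_mul]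

lemma conj_t_twoPt {d : G} (hd : d ∈ twoPt G a t) : t * d * t ∈ twoPt G a t := by
  rw [mem_twoPt] at *
  simp only [mul_smul, t_smul_smul hS, hd.1, hd.2, and_self]

lemma conj_t_mul (x y : G) : t * (x * y) * t = (t * x * t) * (t * y * t) := by
  simp only [mul_assoc, tt_cancel hS]

lemma conj_t_inv (x : G) : t * x⁻¹ * t = (t * x * t)⁻¹ := by
  simp [mul_inv_rev, t_inv hS, mul_assoc]

lemma conj_t_conj_t (x : G) : t * (t * x * t) * t = x := by
  simp [mul_assoc, tt_cancel hS, hS.mul_self]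

lemma mem_invSet {k : G} : k ∈ invSet G a t ↔ k ∈ twoPt G a t ∧ t * k * t = k⁻¹ := by
  show k ∈ twoPt G a t ∧ t * k * t⁻¹ = k⁻¹ ↔ _
  rw [t_inv hS]

lemma odd_twoPt {d : G} (hd : d ∈ twoPt G a t) : Odd (orderOf d) :=
  odd_orderOf_of_mem hS.odd_card hd

lemma two_trans {x y x' y' : Ω} (h : x ≠ y) (h' : x' ≠ y') :
    ∃ g : G, g • x = x' ∧ g • y = y' :=
  MulAction.is_two_pretransitive_iff.1 hS.two_transitive h h'

lemma exists_smul (x : Ω) : ∃ g : G, g • a = x := by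
  by_cases h : x = a
  · exact ⟨1, by rw [one_smul, h]⟩
  · obtain ⟨g, h1, -⟩ := two_trans hS (Ne.symm (ta_ne hS)) (show x ≠ a from h)
    exact ⟨g, h1⟩

lemma decomp {g : G} (hg : g • a = a) : ∃ q ∈ Q, ∃ d ∈ twoPt G a t, g = q * d := by
  have hle : twoPt G a t ≤ Subgroup.normalizer (Q : Set G) := by
    intro d hd
    rw [Subgroup.mem_normalizer_iff]
    intro x
    refine ⟨fun hx => hS.conj_mem d hd.1 x hx, fun hx => ?_⟩
    have := hS.conj_mem d⁻¹ ((stabilizer G a).inv_mem hd.1) _ hx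
    simpa [mul_assoc] using this
  have h : g ∈ ((Q ⊔ twoPt G a t : Subgroup G) : Set G) := by
    rw [SetLike.mem_coe, show Q ⊔ twoPt G a t = stabilizer G a from hS.sup_eq]
    exact hg
  rw [Subgroup.coe_mul_of_right_le_normalizer_left _ _ hle] at h
  obtain ⟨q, hq, d, hd, rfl⟩ := h
  exact ⟨q, hq, d, hd, rfl⟩

lemma Q_smul {q : G} (hq : q ∈ Q) : q • a = a := hS.le hq

lemma eq_one_of_mem_Q {q : G} (hq : q ∈ Q) (h : q • t • a = t • a) : q = 1 := by
  rw [← Subgroup.mem_bot, ← hS.inf_eq_bot]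
  exact ⟨hq, h⟩

lemma Q_inj {q q' : G} (hq : q ∈ Q) (hq' : q' ∈ Q) (h : q • t • a = q' • t • a) : q = q' := by
  have := eq_one_of_mem_Q hS (Q.mul_mem (Q.inv_mem hq') hq) (by rw [mul_smul, h, inv_smul_smul])
  exact (inv_mul_eq_one.1 this).symm

lemma decomp_unique {q q' d d' : G} (hq : q ∈ Q) (hq' : q' ∈ Q) (hd : d ∈ twoPt G a t)
    (hd' : d' ∈ twoPt G a t) (h : q * d = q' * d') : q = q' ∧ d = d' := by
  have e := congrArg (fun g => g • t • a) h
  simp only [mul_smul, (mem_twoPt.1 hd).2, (mem_twoPt.1 hd').2] at e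
  obtain rfl := Q_inj hS hq hq' e
  exact ⟨rfl, mul_left_cancel h⟩

lemma Q_trans {c : Ω} (hc : c ≠ a) : ∃ q ∈ Q, q • t • a = c := by
  obtain ⟨g, h1, h2⟩ := two_trans hS (Ne.symm (ta_ne hS)) (Ne.symm hc)
  obtain ⟨q, hq, d, hd, rfl⟩ := decomp hS h1
  refine ⟨q, hq, ?_⟩
  rwa [mul_smul, (mem_twoPt.1 hd).2] at h2

lemma Q_conj {g x : G} (hg : g • a = a) (hx : x ∈ Q) : g * x * g⁻¹ ∈ Q := hS.conj_mem g hg x hx

/-- uniqueness of the canonical form `g * h * t * f` -/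
lemma canonical_unique {g g' h h' f f' : G} (hg : g ∈ Q) (hg' : g' ∈ Q) (hh : h ∈ twoPt G a t)
    (hh' : h' ∈ twoPt G a t) (hf : f ∈ Q) (hf' : f' ∈ Q)
    (e : g * h * t * f = g' * h' * t * f') : g = g' ∧ h = h' ∧ f = f' := by
  have e1 := congrArg (fun x => x • a) e
  simp only [mul_smul, Q_smul hS hf, Q_smul hS hf', (mem_twoPt.1 hh).2, (mem_twoPt.1 hh').2] at e1
  obtain rfl := Q_inj hS hg hg' e1
  have e2 : h * t * f = h' * t * f' := by
    simpa [mul_assoc] using e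
  have e3 : h'⁻¹ * h = t * (f' * f⁻¹) * t := by
    calc h'⁻¹ * h = h'⁻¹ * (h * t * f) * f⁻¹ * t⁻¹ := by group
      _ = h'⁻¹ * (h' * t * f') * f⁻¹ * t := by rw [e2, t_inv hS]
      _ = _ := by group
  have e4 : f' * f⁻¹ = t * (h'⁻¹ * h) * t := by rw [e3, conj_t_conj_t hS]
  have e5 : f' * f⁻¹ ∈ twoPt G a t := by
    rw [e4]; exact conj_t_twoPt hS (mul_mem (inv_mem hh') hh)
  have e6 := eq_one_of_mem_Q hS (Q.mul_mem hf' (Q.inv_mem hf)) e5.2
  obtain rfl : f' = f := mul_inv_eq_one.1 e6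
  exact ⟨rfl, mul_right_cancel (mul_right_cancel e2), rfl⟩

section Involutions

lemma invol_eq_of_fixed {u : G} (hu1 : u ≠ 1) (hu2 : u * u = 1) {c d : Ω} (hc : u • c = c)
    (hd : u • d = d) : c = d := by
  by_contra hne
  obtain ⟨g, hga, hgb⟩ := two_trans hS (Ne.symm (ta_ne hS)) hne
  have hmem : g⁻¹ * u * g ∈ twoPt G a t := by
    rw [mem_twoPt]
    constructor
    · rw [mul_smul, mul_smul, hga, hc, ← hga, inv_smul_smul]
    · rw [mul_smul, mul_smul, hgb, hd, ← hgb, inv_smul_smul]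
  have h1 : g⁻¹ * u * g = 1 := eq_one_of_mem_of_sq hS.odd_card hmem (by
    calc g⁻¹ * u * g * (g⁻¹ * u * g) = g⁻¹ * (u * u) * g := by group
      _ = 1 := by rw [hu2]; group)
  apply hu1
  calc u = g * (g⁻¹ * u * g) * g⁻¹ := by group
    _ = 1 := by rw [h1]; group

lemma commute_fixed {u g : G} (hu1 : u ≠ 1) (hu2 : u * u = 1) (hg : g * u = u * g) {c : Ω}
    (hc : u • c = c) : g • c = c := by
  have h : u • g • c = g • c := by rw [smul_smul, ← hg, mul_smul, hc]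
  exact (invol_eq_of_fixed hS hu1 hu2 hc h).symm

lemma odd_mul_of_fixed {s u : G} (hs1 : s ≠ 1) (hs2 : s * s = 1) {c : Ω} (hc : s • c = c)
    (hu1 : u ≠ 1) (hu2 : u * u = 1) (huc : u • c ≠ c) [Finite G] : Odd (orderOf (s * u)) := by
  by_contra hodd
  rw [Nat.not_odd_iff_even] at hodd
  obtain ⟨j, hj⟩ := hodd
  set x := s * u with hxdef
  have hpos : 0 < orderOf x := orderOf_pos x
  have hzz : x ^ j * x ^ j = 1 := by rw [← pow_add, ← hj]; exact pow_orderOf_eq_one x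
  have hz1 : x ^ j ≠ 1 := pow_ne_one_of_lt_orderOf (by omega) (by omega)
  have hzi : (x ^ j)⁻¹ = x ^ j := inv_eq_of_mul_eq_one_right hzz
  have hsi : s⁻¹ = s := inv_eq_of_mul_eq_one_right hs2
  have hui : u⁻¹ = u := inv_eq_of_mul_eq_one_right hu2
  have hsx : s * x * s⁻¹ = x⁻¹ := by
    rw [hxdef, ← mul_assoc, hs2, one_mul, mul_inv_rev, hui]
  have hsz : s * x ^ j = x ^ j * s := by
    have : s * x ^ j * s⁻¹ = x ^ j := by rw [← conj_pow, hsx, inv_pow, hzi]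
    calc s * x ^ j = s * x ^ j * s⁻¹ * s := by group
      _ = x ^ j * s := by rw [this]
  have huz : u * x ^ j = x ^ j * u := by
    have e : u = s * x := by rw [hxdef, ← mul_assoc, hs2, one_mul]
    calc u * x ^ j = s * (x * x ^ j) := by rw [e, mul_assoc]
      _ = s * (x ^ j * x) := by rw [(Commute.self_pow x j).eq]
      _ = x ^ j * (s * x) := by rw [← mul_assoc, hsz, mul_assoc]
      _ = x ^ j * u := by rw [← e]
  have hzc : (x ^ j) • c = c := commute_fixed hS hs1 hs2 hsz.symm hc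
  exact huc (commute_fixed hS hz1 hzz huz hzc)

lemma conj_of_odd_mul {s u : G} (hs2 : s * s = 1) (hu2 : u * u = 1) (h : Odd (orderOf (s * u))) :
    ∃ g : G, g * s * g⁻¹ = u := by
  obtain ⟨k, hk⟩ := h
  set x := s * u with hxdef
  refine ⟨x ^ k, ?_⟩
  have hsi : s⁻¹ = s := inv_eq_of_mul_eq_one_right hs2
  have hui : u⁻¹ = u := inv_eq_of_mul_eq_one_right hu2
  have hsx : s * x * s⁻¹ = x⁻¹ := by
    rw [hxdef, ← mul_assoc, hs2, one_mul, mul_inv_rev, hui]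
  have h2 : x ^ (2 * k + 1) = 1 := by rw [← hk]; exact pow_orderOf_eq_one x
  have hsk : s * (x ^ k)⁻¹ * s⁻¹ = x ^ k := by
    have : s * x ^ k * s⁻¹ = (x ^ k)⁻¹ := by rw [← conj_pow, hsx, inv_pow]
    calc s * (x ^ k)⁻¹ * s⁻¹ = (s * x ^ k * s⁻¹)⁻¹ := by group
      _ = x ^ k := by rw [this, inv_inv]
  have h3 : x ^ k * x ^ k = x⁻¹ := by
    rw [← pow_add]; apply eq_inv_of_mul_eq_one_left
    rw [← pow_succ, show k + k + 1 = 2 * k + 1 by ring, h2]
  calc x ^ k * s * (x ^ k)⁻¹ = x ^ k * (s * (x ^ k)⁻¹ * s⁻¹) * s := by group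
    _ = x ^ k * x ^ k * s := by rw [hsk]
    _ = x⁻¹ * s := by rw [h3]
    _ = u := by rw [hxdef, mul_inv_rev, hsi, hui, mul_assoc, hs2, mul_one]

lemma inv_mem_Q_of_fixed {u : G} (hu2 : u * u = 1) (ha : u • a = a) : u ∈ Q := by
  obtain ⟨q, hq, d, hd, rfl⟩ := decomp hS ha
  have h1 : q * (d * q * d⁻¹) * (d * d) = 1 * 1 :=
    calc q * (d * q * d⁻¹) * (d * d) = q * d * (q * d) := by group
      _ = 1 * 1 := hu2.trans (one_mul 1).symm
  have h2 := (decomp_unique hS (Q.mul_mem hq (Q_conj hS (mem_twoPt.1 hd).1 hq)) Q.one_mem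
    (mul_mem hd hd) (one_mem _) h1).2
  rw [eq_one_of_mem_of_sq hS.odd_card hd h2, mul_one]
  exact hq

variable [Finite G]

lemma finite_omega : Finite Ω := Finite.of_surjective (fun g : G => g • a) (exists_smul hS)

lemma exists_fixed {u : G} (hu2 : u * u = 1) : ∃ c : Ω, u • c = c := by
  classical
  haveI := finite_omega hS
  haveI := Fintype.ofFinite Ω
  let e : Q → {c : Ω // c ≠ a} := fun q => ⟨(q : G) • t • a, by
    intro h
    have h' : t • a = a := smul_left_cancel (q : G) (h.trans (Q_smul hS q.2).symm)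
    exact ta_ne hS h'⟩
  have hbij : Function.Bijective e := by
    constructor
    · intro q q' h
      exact Subtype.ext (Q_inj hS q.2 q'.2 (Subtype.ext_iff.1 h))
    · rintro ⟨c, hc⟩
      obtain ⟨q, hq, h⟩ := Q_trans hS hc
      exact ⟨⟨q, hq⟩, Subtype.ext h⟩
  have hcard : Nat.card Q = Fintype.card Ω - 1 := by
    rw [Nat.card_eq_of_bijective e hbij, Nat.card_eq_fintype_card,
      Fintype.card_subtype_compl, Fintype.card_subtype_eq]
  have hnd : ¬ 2 ∣ Fintype.card Ω := by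
    have h1 : 1 ≤ Fintype.card Ω := Fintype.card_pos_iff.2 ⟨a⟩
    have h2 : Even (Fintype.card Ω - 1) := hcard ▸ hS.even_card
    obtain ⟨j, hj⟩ := h2
    omega
  haveI : Fact (Nat.Prime 2) := ⟨Nat.prime_two⟩
  have hσ : (MulAction.toPerm u : Equiv.Perm Ω) ^ (2 ^ 1) = 1 := by
    ext c
    simp [pow_two, Equiv.Perm.mul_apply, MulAction.toPerm_apply, smul_smul, hu2]
  obtain ⟨c, hc⟩ := Equiv.Perm.exists_fixed_point_of_prime hnd hσ
  exact ⟨c, hc⟩

lemma two_le_third (u : G) (hu1 : u ≠ 1) (hu2 : u * u = 1) (x : Ω) :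
    ∃ w : G, w ≠ 1 ∧ w * w = 1 ∧ (∀ c, w • c = c → c ≠ x) := by
  obtain ⟨c, hc⟩ := exists_fixed hS hu2
  obtain ⟨y, hy⟩ : ∃ y : Ω, y ≠ x := by
    by_cases h : a = x
    · exact ⟨t • a, fun h' => ta_ne hS (h'.trans h.symm)⟩
    · exact ⟨a, h⟩
  obtain ⟨g, hg⟩ := exists_smul hS c
  obtain ⟨g', hg'⟩ := exists_smul hS y
  set h := g' * g⁻¹ with hdef
  have hne : h * u * h⁻¹ ≠ 1 := by simpa using hu1
  refine ⟨h * u * h⁻¹, hne, ?_, ?_⟩
  · calc h * u * h⁻¹ * (h * u * h⁻¹) = h * (u * u) * h⁻¹ := by group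
      _ = 1 := by rw [hu2]; group
  · intro d hd hdx
    have hfy : (h * u * h⁻¹) • y = y := by
      have e : h • c = y := by rw [hdef, mul_smul, ← hg, inv_smul_smul, hg']
      rw [← e, mul_smul, mul_smul, inv_smul_smul, hc]
    have hh : h * u * h⁻¹ * (h * u * h⁻¹) = 1 := by
      calc h * u * h⁻¹ * (h * u * h⁻¹) = h * (u * u) * h⁻¹ := by group
        _ = 1 := by rw [hu2]; group
    exact hy ((invol_eq_of_fixed hS hne hh hfy hd).trans hdx)

lemma invol_conj {u v : G} (hu1 : u ≠ 1) (hu2 : u * u = 1) (hv1 : v ≠ 1) (hv2 : v * v = 1) :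
    ∃ g : G, g * u * g⁻¹ = v := by
  have case1 : ∀ x y : G, x ≠ 1 → x * x = 1 → y ≠ 1 → y * y = 1 →
      (∃ c : Ω, x • c = c ∧ y • c ≠ c) → ∃ g : G, g * x * g⁻¹ = y := by
    rintro x y hx1 hx2 hy1 hy2 ⟨c, hxc, hyc⟩
    exact conj_of_odd_mul hS hx2 hy2 (odd_mul_of_fixed hS hx1 hx2 hxc hy1 hy2 hyc)
  obtain ⟨c, hc⟩ := exists_fixed hS hu2
  by_cases h : v • c = c
  · obtain ⟨w, hw1, hw2, hw⟩ := two_le_third hS u hu1 hu2 c
    obtain ⟨g, hg⟩ := case1 u w hu1 hu2 hw1 hw2 ⟨c, hc, fun e => hw c e rfl⟩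
    obtain ⟨d, hd⟩ := exists_fixed hS hw2
    obtain ⟨g', hg'⟩ := case1 w v hw1 hw2 hv1 hv2
      ⟨d, hd, fun e => hw d hd (invol_eq_of_fixed hS hv1 hv2 e h)⟩
    exact ⟨g' * g, by rw [← hg', ← hg]; group⟩
  · exact case1 u v hu1 hu2 hv1 hv2 ⟨c, hc, h⟩

end Involutions

section InvertedSet

/-- involutions exchanging `a` and `t • a` -/
def IsSwap (G : Type*) [Group G] {Ω : Type*} [MulAction G Ω] (a : Ω) (t u : G) : Prop :=
  u ≠ 1 ∧ u * u = 1 ∧ u • a = t • a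

omit hS in
lemma IsSwap.smul' {u : G} (h : IsSwap G a t u) : u • t • a = a := by
  rw [← h.2.2, smul_smul, h.2.1, one_smul]

lemma isSwap_t : IsSwap G a t t := ⟨hS.ne_one, hS.mul_self, rfl⟩

lemma one_mem_invSet : (1 : G) ∈ invSet G a t :=
  (mem_invSet hS).2 ⟨one_mem _, by rw [mul_one, hS.mul_self, inv_one]⟩

lemma inv_mem_invSet {k : G} (hk : k ∈ invSet G a t) : k⁻¹ ∈ invSet G a t := by
  rw [mem_invSet hS] at *
  exact ⟨inv_mem hk.1, by rw [conj_t_inv hS, hk.2]⟩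

lemma conj_t_of_invSet {k : G} (hk : k ∈ invSet G a t) : k⁻¹ * t * k = t * (k * k) := by
  rw [← ((mem_invSet hS).1 hk).2]
  simp only [mul_assoc, hS.mul_self, mul_one]

lemma isSwap_mul {k : G} (hk : k ∈ invSet G a t) : IsSwap G a t (t * k) := by
  obtain ⟨hkD, hkt⟩ := (mem_invSet hS).1 hk
  refine ⟨fun h => ?_, ?_, ?_⟩
  · have : k = t := by
      have := eq_inv_of_mul_eq_one_right h
      rwa [t_inv hS] at this
    exact hS.not_mem (this ▸ hkD.1)
  · rw [← mul_assoc, hkt, inv_mul_cancel]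
  · rw [mul_smul, (mem_twoPt.1 hkD).1]

lemma t_mul_mem_invSet {u : G} (hu : IsSwap G a t u) : t * u ∈ invSet G a t := by
  obtain ⟨hu1, hu2, hua⟩ := hu
  refine (mem_invSet hS).2 ⟨mem_twoPt.2 ⟨?_, ?_⟩, ?_⟩
  · rw [mul_smul, hua, t_smul_smul hS]
  · rw [mul_smul, IsSwap.smul' ⟨hu1, hu2, hua⟩]
  · rw [mul_inv_rev, inv_eq_of_mul_eq_one_right hu2, t_inv hS, tt_cancel hS]

lemma sqrt_invSet {l : G} (hl : l ∈ invSet G a t) : ∃ k ∈ invSet G a t, k * k = l := by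
  obtain ⟨hlD, hlt⟩ := (mem_invSet hS).1 hl
  obtain ⟨k, hk, hkk⟩ := exists_sqrt_mem hS.odd_card hlD
  refine ⟨k, (mem_invSet hS).2 ⟨hk, ?_⟩, hkk⟩
  apply sq_inj_mem hS.odd_card (conj_t_twoPt hS hk) (inv_mem hk)
  rw [← conj_t_mul hS, hkk, hlt, ← mul_inv_rev, hkk]

lemma swap_eq_conj_t {u : G} (hu : IsSwap G a t u) : ∃ k ∈ invSet G a t, u = k⁻¹ * t * k := by
  obtain ⟨k, hk, hkk⟩ := sqrt_invSet hS (t_mul_mem_invSet hS hu)
  exact ⟨k, hk, by rw [conj_t_of_invSet hS hk, hkk, tt_cancel hS]⟩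

omit hS in
lemma isSwap_conj {u d : G} (hu : IsSwap G a t u) (hd : d ∈ twoPt G a t) :
    IsSwap G a t (d * u * d⁻¹) := by
  refine ⟨by simpa using hu.1, ?_, ?_⟩
  · calc d * u * d⁻¹ * (d * u * d⁻¹) = d * (u * u) * d⁻¹ := by group
      _ = 1 := by rw [hu.2.1]; group
  · rw [mul_smul, mul_smul, inv_smul_eq_iff.2 (mem_twoPt.1 hd).1.symm, hu.2.2, (mem_twoPt.1 hd).2]

lemma decomp_V {d : G} (hd : d ∈ twoPt G a t) :
    ∃ v k : G, v ∈ twoPt G a t ∧ t * v * t = v ∧ k ∈ invSet G a t ∧ d = v * k := by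
  obtain ⟨v, k, hv, hvt, hk, hkt, rfl⟩ :=
    exists_fixed_mul_inverted hS.odd_card hS.mul_self (fun x hx => conj_t_twoPt hS hx) hd
  exact ⟨v, k, hv, hvt, (mem_invSet hS).2 ⟨hk, hkt⟩, rfl⟩

lemma decomp_V' {d : G} (hd : d ∈ twoPt G a t) :
    ∃ k v : G, k ∈ invSet G a t ∧ v ∈ twoPt G a t ∧ t * v * t = v ∧ d = k * v := by
  obtain ⟨v, k, hv, hvt, hk, e⟩ := decomp_V hS (inv_mem hd)
  exact ⟨k⁻¹, v⁻¹, inv_mem_invSet hS hk, inv_mem hv, by rw [conj_t_inv hS, hvt],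
    by rw [← mul_inv_rev, ← e, inv_inv]⟩

end InvertedSet

section Pairing

/-- `t s t = r⁻¹ u r` with `s` an involution of `G_a`, `u` exchanging `a` and `t • a`, `r ∈ Q` -/
def IsPaired (t : G) (a : Ω) (Q : Subgroup G) (s u r : G) : Prop :=
  (s ∈ Cfsg.involutionsIn (stabilizer G a : Set G)) ∧ IsSwap G a t u ∧ r ∈ Q ∧
    t * s * t = r⁻¹ * u * r

omit hS in
lemma mem_invols {s : G} :
    s ∈ Cfsg.involutionsIn (stabilizer G a : Set G) ↔ s • a = a ∧ s ≠ 1 ∧ s * s = 1 := Iff.rfl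

lemma invol_tst {s : G} (hs : s ∈ Cfsg.involutionsIn (stabilizer G a : Set G)) :
    t * s * t ≠ 1 ∧ t * s * t * (t * s * t) = 1 ∧ (t * s * t) • t • a = t • a := by
  obtain ⟨hsa, hs1, hs2⟩ := mem_invols.1 hs
  refine ⟨fun h => hs1 ?_, ?_, ?_⟩
  · rw [← conj_t_conj_t hS s, h, mul_one, hS.mul_self]
  · rw [← conj_t_mul hS, hs2, mul_one, hS.mul_self]
  · rw [mul_smul, mul_smul, t_smul_smul hS, hsa]

lemma paired_right_unique {s s' u r r' : G} (h : IsPaired t a Q s u r)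
    (h' : IsPaired t a Q s' u r') : s = s' ∧ r = r' := by
  obtain ⟨hs, hu, hr, he⟩ := h
  obtain ⟨hs', -, hr', he'⟩ := h'
  have f : ∀ {s r : G}, s ∈ Cfsg.involutionsIn (stabilizer G a : Set G) →
      t * s * t = r⁻¹ * u * r → u • r • t • a = r • t • a := by
    intro s r hs he
    have := (invol_tst hS hs).2.2
    rw [he, mul_smul, mul_smul, inv_smul_eq_iff] at this
    exact this
  obtain rfl : r = r' := Q_inj hS hr hr' (invol_eq_of_fixed hS hu.1 hu.2.1 (f hs he) (f hs' he'))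
  refine ⟨?_, rfl⟩
  rw [← conj_t_conj_t hS s, he, ← he', conj_t_conj_t hS]

lemma paired_left_unique {s u u' r r' : G} (h : IsPaired t a Q s u r)
    (h' : IsPaired t a Q s u' r') : u = u' ∧ r = r' := by
  obtain ⟨-, hu, hr, he⟩ := h
  obtain ⟨-, hu', hr', he'⟩ := h'
  have f : ∀ {u r : G}, IsSwap G a t u → r ∈ Q → t * s * t = r⁻¹ * u * r →
      (t * s * t) • a = r⁻¹ • t • a := by
    intro u r hu hr he
    rw [he, mul_smul, mul_smul, Q_smul hS hr, hu.2.2]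
  have hrr := Q_inj hS (Q.inv_mem hr) (Q.inv_mem hr') ((f hu hr he).symm.trans (f hu' hr' he'))
  obtain rfl : r = r' := inv_injective hrr
  rw [he] at he'
  exact ⟨mul_left_cancel (mul_right_cancel he'), rfl⟩

variable [Finite G]

lemma exists_paired_right {u : G} (hu : IsSwap G a t u) :
    ∃ s r : G, IsPaired t a Q s u r := by
  obtain ⟨hu1, hu2, hua⟩ := hu
  obtain ⟨c, hc⟩ := exists_fixed hS hu2
  have hca : c ≠ a := by
    rintro rfl
    exact ta_ne hS (hua.symm.trans hc)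
  obtain ⟨r, hr, hrc⟩ := Q_trans hS hca
  refine ⟨t * (r⁻¹ * u * r) * t, r, mem_invols.2 ⟨?_, ?_, ?_⟩, ⟨hu1, hu2, hua⟩, hr,
    conj_t_conj_t hS _⟩
  · simp only [mul_smul]
    rw [hrc, hc, ← hrc, inv_smul_smul, t_smul_smul hS]
  · intro h
    apply hu1
    calc u = r * (t * (t * (r⁻¹ * u * r) * t) * t) * r⁻¹ := by
          rw [conj_t_conj_t hS]; group
      _ = 1 := by rw [h, mul_one, hS.mul_self]; group
  · rw [← conj_t_mul hS]
    have : r⁻¹ * u * r * (r⁻¹ * u * r) = 1 := by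
      calc r⁻¹ * u * r * (r⁻¹ * u * r) = r⁻¹ * (u * u) * r := by group
        _ = 1 := by rw [hu2]; group
    rw [this, mul_one, hS.mul_self]

lemma exists_paired_left {s : G} (hs : s ∈ Cfsg.involutionsIn (stabilizer G a : Set G)) :
    ∃ u r : G, IsPaired t a Q s u r := by
  obtain ⟨hw1, hw2, hwb⟩ := invol_tst hS hs
  have hwa : (t * s * t) • a ≠ a := fun h => ta_ne hS (invol_eq_of_fixed hS hw1 hw2 hwb h)
  obtain ⟨q, hq, hqc⟩ := Q_trans hS hwa
  refine ⟨q⁻¹ * (t * s * t) * q, q⁻¹, hs, ⟨?_, ?_, ?_⟩, Q.inv_mem hq, by group⟩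
  · exact conj_ne_one' hw1 q
  · calc q⁻¹ * (t * s * t) * q * (q⁻¹ * (t * s * t) * q) =
        q⁻¹ * ((t * s * t) * (t * s * t)) * q := by group
      _ = 1 := by rw [hw2]; group
  · rw [mul_smul, mul_smul, Q_smul hS hq, ← hqc, inv_smul_smul]

omit [Finite G] in
lemma paired_conj {s u r d : G} (h : IsPaired t a Q s u r) (hd : d ∈ twoPt G a t) :
    IsPaired t a Q ((t * d * t) * s * (t * d * t)⁻¹) (d * u * d⁻¹) (d * r * d⁻¹) := by
  obtain ⟨hs, hu, hr, he⟩ := h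
  obtain ⟨hsa, hs1, hs2⟩ := mem_invols.1 hs
  have hea := (mem_twoPt.1 (conj_t_twoPt hS hd)).1
  refine ⟨mem_invols.2 ⟨?_, conj_ne_one hs1 _, ?_⟩, isSwap_conj hu hd,
    Q_conj hS (mem_twoPt.1 hd).1 hr, ?_⟩
  · rw [mul_smul, mul_smul, inv_smul_eq_iff.2 hea.symm, hsa, hea]
  · calc _ = (t * d * t) * (s * s) * (t * d * t)⁻¹ := by group
      _ = 1 := by rw [hs2]; group
  · rw [conj_t_mul hS, conj_t_mul hS, conj_t_inv hS, conj_t_conj_t hS, he]
    group

lemma centralizer_iff {s u r d : G} (h : IsPaired t a Q s u r) (hd : d ∈ twoPt G a t) :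
    d * u = u * d ↔ (t * d * t) * s = s * (t * d * t) := by
  have h' := paired_conj hS h hd
  constructor
  · intro hc
    rw [show d * u * d⁻¹ = u by rw [hc]; group] at h'
    exact mul_inv_eq_iff_eq_mul.1 (paired_right_unique hS h' h).1
  · intro hc
    rw [show t * d * t * s * (t * d * t)⁻¹ = s by rw [hc]; group] at h'
    exact mul_inv_eq_iff_eq_mul.1 (paired_left_unique hS h' h).1

/-- the involution `s` of the structure equation `t s t = r⁻¹ t r` has `C_D(s) = C_D(t)` -/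
lemma centralizer_base {s r d : G} (h : IsPaired t a Q s t r) (hd : d ∈ twoPt G a t) :
    d * s = s * d ↔ t * d * t = d := by
  constructor
  · intro hc
    have hd' := conj_t_twoPt hS hd
    have hcu : (t * d * t) * t = t * (t * d * t) :=
      (centralizer_iff hS h hd').2 (by rwa [conj_t_conj_t hS])
    calc t * d * t = t * d * t * t * t := by simp [mul_assoc, hS.mul_self]
      _ = t * (t * d * t) * t := by rw [hcu]
      _ = d := conj_t_conj_t hS d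
  · intro hc
    have hdt : d * t = t * d := by
      calc d * t = t * d * t * t := by rw [hc]
        _ = t * d := by rw [mul_assoc, hS.mul_self, mul_one]
    have := (centralizer_iff hS h hd).1 hdt
    rwa [hc] at this

/-- the involutions of `G_a` are the `K`-conjugates of the distinguished one -/
lemma invols_eq_conj {s r s' : G} (h : IsPaired t a Q s t r)
    (hs' : s' ∈ Cfsg.involutionsIn (stabilizer G a : Set G)) :
    ∃ k ∈ invSet G a t, s' = k⁻¹ * s * k := by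
  obtain ⟨u, r', h'⟩ := exists_paired_left hS hs'
  obtain ⟨k, hk, rfl⟩ := swap_eq_conj_t hS h'.2.1
  have hkD := ((mem_invSet hS).1 hk).1
  have hc := paired_conj hS h (inv_mem hkD)
  rw [inv_inv] at hc
  obtain ⟨e, -⟩ := paired_right_unique hS h' hc
  obtain ⟨v, k', hv, hvt, hk', hd⟩ := decomp_V hS (conj_t_twoPt hS hkD)
  refine ⟨k', hk', ?_⟩
  have hvs : v * s = s * v := (centralizer_base hS h hv).2 hvt
  rw [e, conj_t_inv hS, inv_inv, hd]
  calc (v * k')⁻¹ * s * (v * k') = k'⁻¹ * (v⁻¹ * (s * v)) * k' := by group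
    _ = k'⁻¹ * s * k' := by rw [← hvs]; group

lemma conj_invol_injective {s : G} (hs : s ∈ Cfsg.involutionsIn (stabilizer G a : Set G))
    {k k' : G} (hk : k ∈ invSet G a t) (hk' : k' ∈ invSet G a t)
    (h : k⁻¹ * s * k = k'⁻¹ * s * k') : k = k' := by
  obtain ⟨s0, r0, h0⟩ := exists_paired_right hS (isSwap_t hS)
  obtain ⟨l, hl, rfl⟩ := invols_eq_conj hS h0 hs
  obtain ⟨hkD, hkt⟩ := (mem_invSet hS).1 hk
  obtain ⟨hk'D, hk't⟩ := (mem_invSet hS).1 hk'
  obtain ⟨hlD, hlt⟩ := (mem_invSet hS).1 hl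
  have hdD : l * k' * k⁻¹ * l⁻¹ ∈ twoPt G a t :=
    mul_mem (mul_mem (mul_mem hlD hk'D) (inv_mem hkD)) (inv_mem hlD)
  have hds : (l * k' * k⁻¹ * l⁻¹) * s0 = s0 * (l * k' * k⁻¹ * l⁻¹) := by
    calc (l * k' * k⁻¹ * l⁻¹) * s0
        = l * k' * (k⁻¹ * (l⁻¹ * s0 * l) * k) * k⁻¹ * l⁻¹ := by group
      _ = l * k' * (k'⁻¹ * (l⁻¹ * s0 * l) * k') * k⁻¹ * l⁻¹ := by rw [h]
      _ = _ := by group
  have hfix := (centralizer_base hS h0 hdD).1 hds
  rw [conj_t_mul hS, conj_t_mul hS, conj_t_mul hS, hlt, hk't, conj_t_inv hS, hkt, inv_inv,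
    conj_t_inv hS, hlt, inv_inv] at hfix
  have h1 : k * (l * l) * k = k' * (l * l) * k' := by
    calc k * (l * l) * k = k' * l * (l⁻¹ * k'⁻¹ * k * l) * l * k := by group
      _ = k' * l * (l * k' * k⁻¹ * l⁻¹) * l * k := by rw [hfix]
      _ = k' * (l * l) * k' := by group
  have h2 : l * k * l = l * k' * l := by
    apply sq_inj_mem hS.odd_card (mul_mem (mul_mem hlD hkD) hlD) (mul_mem (mul_mem hlD hk'D) hlD)
    calc l * k * l * (l * k * l) = l * (k * (l * l) * k) * l := by group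
      _ = l * (k' * (l * l) * k') * l := by rw [h1]
      _ = _ := by group
  exact mul_left_cancel (mul_right_cancel h2)

omit [Finite G] in
lemma conj_invol_mem {s k : G} (hs : s ∈ Cfsg.involutionsIn (stabilizer G a : Set G))
    (hk : k • a = a) : k⁻¹ * s * k ∈ Cfsg.involutionsIn (stabilizer G a : Set G) := by
  obtain ⟨hsa, hs1, hs2⟩ := mem_invols.1 hs
  refine mem_invols.2 ⟨?_, conj_ne_one' hs1 k, ?_⟩
  · rw [mul_smul, mul_smul, hk, hsa, inv_smul_eq_iff, hk]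
  · calc k⁻¹ * s * k * (k⁻¹ * s * k) = k⁻¹ * (s * s) * k := by group
      _ = 1 := by rw [hs2]; group

lemma conj_invol_bijective {s : G} (hs : s ∈ Cfsg.involutionsIn (stabilizer G a : Set G)) :
    ∃ e : invSet G a t ≃ Cfsg.involutionsIn (stabilizer G a : Set G),
      ∀ k, (e k : G) = (k : G)⁻¹ * s * k := by
  classical
  obtain ⟨s0, r0, h0⟩ := exists_paired_right hS (isSwap_t hS)
  let f : ∀ s : Cfsg.involutionsIn (stabilizer G a : Set G),
      invSet G a t → Cfsg.involutionsIn (stabilizer G a : Set G) :=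
    fun s k => ⟨(k : G)⁻¹ * (s : G) * k,
      conj_invol_mem hS s.2 (mem_twoPt.1 ((mem_invSet hS).1 k.2).1).1⟩
  have hinj : ∀ s, Function.Injective (f s) := fun s k k' h =>
    Subtype.ext (conj_invol_injective hS s.2 k.2 k'.2 (Subtype.ext_iff.1 h))
  have hbase : Function.Bijective (f ⟨s0, h0.1⟩) := by
    refine ⟨hinj _, fun s' => ?_⟩
    obtain ⟨k, hk, e⟩ := invols_eq_conj hS h0 s'.2
    exact ⟨⟨k, hk⟩, Subtype.ext e.symm⟩
  have hcard := Nat.card_eq_of_bijective _ hbase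
  have hb : Function.Bijective (f ⟨s, hs⟩) :=
    (Nat.bijective_iff_injective_and_card _).2 ⟨hinj _, hcard⟩
  exact ⟨Equiv.ofBijective _ hb, fun k => rfl⟩

end Pairing

section FixedPoints

variable {X : Set G}

lemma Q_centralizes (hX : X ⊆ (twoPt G a t : Set G)) {q : G} (hq : q ∈ Q) {c : Ω}
    (hqc : q • t • a = c) (hc : ∀ x ∈ X, x • c = c) : q ∈ Subgroup.centralizer X := by
  rw [Subgroup.mem_centralizer_iff]
  intro x hx
  have hxD := mem_twoPt.1 (hX hx)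
  have h1 : x * q * x⁻¹ = q := by
    apply Q_inj hS (Q_conj hS hxD.1 hq) hq
    rw [mul_smul, mul_smul, inv_smul_eq_iff.2 hxD.2.symm, hqc, hc x hx]
  exact mul_inv_eq_iff_eq_mul.1 h1

lemma exists_centralizer_move_a (hX : X ⊆ (twoPt G a t : Set G)) {c : Ω} (hcb : c ≠ t • a)
    (hc : ∀ x ∈ X, x • c = c) : ∃ g ∈ Subgroup.centralizer X, g • a = c := by
  have htc : t • c ≠ a := fun h => hcb (by rw [← h, t_smul_smul hS])
  obtain ⟨q, hq, hqc⟩ := Q_trans hS htc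
  have hX' : (fun x => t * x * t) '' X ⊆ (twoPt G a t : Set G) := by
    rintro _ ⟨x, hx, rfl⟩
    exact conj_t_twoPt hS (hX hx)
  have hcent := Q_centralizes hS hX' hq hqc (by
    rintro _ ⟨x, hx, rfl⟩
    rw [mul_smul, mul_smul, t_smul_smul hS, hc x hx])
  refine ⟨t * q * t, ?_, by rw [mul_smul, mul_smul, hqc, t_smul_smul hS]⟩
  rw [Subgroup.mem_centralizer_iff] at hcent ⊢
  intro x hx
  have := hcent _ ⟨x, hx, rfl⟩
  calc x * (t * q * t) = t * (t * x * t * q) * t := by simp [mul_assoc, tt_cancel hS]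
    _ = t * (q * (t * x * t)) * t := by rw [this]
    _ = t * q * t * x := by simp [mul_assoc, hS.mul_self]

/-- `C_G(X)` is doubly transitive on the fixed points of `X` when there are at least three -/
lemma centralizer_two_trans (hX : X ⊆ (twoPt G a t : Set G))
    (h3 : ∃ b c d : Ω, b ≠ c ∧ b ≠ d ∧ c ≠ d ∧ ∀ x ∈ X, x • b = b ∧ x • c = c ∧ x • d = d)
    {b₁ b₂ c₁ c₂ : Ω} (hb₁ : ∀ x ∈ X, x • b₁ = b₁) (hb₂ : ∀ x ∈ X, x • b₂ = b₂)
    (hc₁ : ∀ x ∈ X, x • c₁ = c₁) (hc₂ : ∀ x ∈ X, x • c₂ = c₂) (hb : b₁ ≠ b₂) (hc : c₁ ≠ c₂) :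
    ∃ g ∈ Subgroup.centralizer X, g • b₁ = c₁ ∧ g • b₂ = c₂ := by
  obtain ⟨d, hda, hdb, hd⟩ : ∃ d, d ≠ a ∧ d ≠ t • a ∧ ∀ x ∈ X, x • d = d := by
    obtain ⟨b, c, d, h1, h2, h3, h4⟩ := h3
    by_cases hb' : b ≠ a ∧ b ≠ t • a
    · exact ⟨b, hb'.1, hb'.2, fun x hx => (h4 x hx).1⟩
    by_cases hc' : c ≠ a ∧ c ≠ t • a
    · exact ⟨c, hc'.1, hc'.2, fun x hx => (h4 x hx).2.1⟩
    refine ⟨d, ?_, ?_, fun x hx => (h4 x hx).2.2⟩ <;> rintro rfl
    · exact h1 (by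
        have e1 : b = t • d := by by_contra e; exact hb' ⟨h2, e⟩
        have e2 : c = t • d := by by_contra e; exact hc' ⟨h3, e⟩
        rw [e1, e2])
    · exact h1 (by
        have e1 : b = a := by by_contra e; exact hb' ⟨e, h2⟩
        have e2 : c = a := by by_contra e; exact hc' ⟨e, h3⟩
        rw [e1, e2])
  have move : ∀ c : Ω, (∀ x ∈ X, x • c = c) → ∃ g ∈ Subgroup.centralizer X, g • a = c := by
    intro c hc
    by_cases hcb : c = t • a
    · obtain ⟨g, hg, hga⟩ := exists_centralizer_move_a hS hX hdb hd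
      obtain ⟨q, hq, hqd⟩ := Q_trans hS hda
      refine ⟨q⁻¹ * g, mul_mem (inv_mem (Q_centralizes hS hX hq hqd hd)) hg, ?_⟩
      rw [mul_smul, hga, ← hqd, inv_smul_smul, hcb]
    · exact exists_centralizer_move_a hS hX hcb hc
  have pair : ∀ c₁ c₂ : Ω, (∀ x ∈ X, x • c₁ = c₁) → (∀ x ∈ X, x • c₂ = c₂) → c₁ ≠ c₂ →
      ∃ g ∈ Subgroup.centralizer X, g • a = c₁ ∧ g • t • a = c₂ := by
    intro c₁ c₂ hc₁ hc₂ hne
    obtain ⟨g, hg, hga⟩ := move c₁ hc₁
    have hgc : ∀ x ∈ X, x • g⁻¹ • c₂ = g⁻¹ • c₂ := by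
      intro x hx
      rw [smul_smul, (Subgroup.mem_centralizer_iff.1 (inv_mem hg)) x hx, mul_smul, hc₂ x hx]
    have hne' : g⁻¹ • c₂ ≠ a := fun h => hne (by rw [← hga, ← h, smul_inv_smul])
    obtain ⟨q, hq, hqc⟩ := Q_trans hS hne'
    exact ⟨g * q, mul_mem hg (Q_centralizes hS hX hq hqc hgc),
      by rw [mul_smul, Q_smul hS hq, hga], by rw [mul_smul, hqc, smul_inv_smul]⟩
  obtain ⟨g, hg, hga, hgb⟩ := pair b₁ b₂ hb₁ hb₂ hb
  obtain ⟨g', hg', hga', hgb'⟩ := pair c₁ c₂ hc₁ hc₂ hc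
  exact ⟨g' * g⁻¹, mul_mem hg' (inv_mem hg), by rw [mul_smul, ← hga, inv_smul_smul, hga'],
    by rw [mul_smul, ← hgb, inv_smul_smul, hgb']⟩

variable [Finite G]

lemma exists_swap_centralizing (hX : X ⊆ (twoPt G a t : Set G))
    (h3 : ∃ b c d : Ω, b ≠ c ∧ b ≠ d ∧ c ≠ d ∧ ∀ x ∈ X, x • b = b ∧ x • c = c ∧ x • d = d) :
    ∃ u ∈ Subgroup.centralizer X, IsSwap G a t u := by
  have hfa : ∀ x ∈ X, x • a = a := fun x hx => (mem_twoPt.1 (hX hx)).1
  have hfb : ∀ x ∈ X, x • t • a = t • a := fun x hx => (mem_twoPt.1 (hX hx)).2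
  obtain ⟨g, hg, hga, hgb⟩ := centralizer_two_trans hS hX h3 hfa hfb hfb hfa
    (Ne.symm (ta_ne hS)) (ta_ne hS)
  have hgg : g * g ∈ twoPt G a t :=
    mem_twoPt.2 ⟨by rw [mul_smul, hga, hgb], by rw [mul_smul, hgb, hga]⟩
  obtain ⟨n, hn⟩ := odd_twoPt hS hgg
  have hua : g ^ (2 * n + 1) • a = t • a := by
    rw [pow_succ, pow_mul, pow_two, mul_smul, hga]
    exact (mem_twoPt.1 (pow_mem hgg n)).2
  refine ⟨g ^ (2 * n + 1), pow_mem hg _, ⟨fun h => ?_, ?_, hua⟩⟩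
  · rw [h, one_smul] at hua
    exact ta_ne hS hua.symm
  · rw [← (Commute.refl g).mul_pow, ← hn]
    exact pow_orderOf_eq_one _

/-- an element inverted by `t` other than `1` fixes only `a` and `t • a` -/
lemma invSet_fixes_two {x : G} (hx : x ∈ invSet G a t) (hx1 : x ≠ 1) {c : Ω} (hc : x • c = c) :
    c = a ∨ c = t • a := by
  by_contra h
  rw [not_or] at h
  obtain ⟨hxD, hxt⟩ := (mem_invSet hS).1 hx
  have hxab := mem_twoPt.1 hxD
  obtain ⟨u, hu, hus⟩ := exists_swap_centralizing hS (X := {x}) (by simpa using hxD)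
    ⟨a, t • a, c, Ne.symm (ta_ne hS), Ne.symm h.1, Ne.symm h.2, by
      simpa using ⟨hxab.1, hxab.2, hc⟩⟩
  have hux : x * u = u * x := Subgroup.mem_centralizer_iff.1 hu x rfl
  have hlD := ((mem_invSet hS).1 (t_mul_mem_invSet hS hus)).1
  apply hx1
  apply eq_one_of_conj_eq_inv (odd_twoPt hS hlD) (odd_twoPt hS hxD)
  calc t * u * x * (t * u)⁻¹ = t * (u * x) * u⁻¹ * t⁻¹ := by group
    _ = t * x * t⁻¹ := by rw [← hux]; group
    _ = x⁻¹ := by rw [t_inv hS, hxt]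

end FixedPoints

end CfsgLib.RankOneInvol
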