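import Cfsg.Agent.Lib.RankOneInvol.Basic
import Cfsg.Agent.Lib.Frobenius.FPFThompson
import Cfsg.Agent.Lib.OddOrder.PuigSeries

/-!
Rank-one set-up with a four-group: `Q` is nilpotent and the involutions of the point stabiliser
are central in it.
-/

set_option autoImplicit false

namespace CfsgLib.RankOneInvol

open MulAction (stabilizer mem_stabilizer_iff)

variable {G Ω : Type*} [Group G] [Finite G] [MulAction G Ω] {a : Ω} {t : G} {Q : Subgroup G}

variable (hS : Cfsg.IsRankOneSetup G Ω a t Q)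
  (h2 : ∃ x y : G, x ≠ 1 ∧ y ≠ 1 ∧ x ≠ y ∧ x * x = 1 ∧ y * y = 1 ∧ x * y = y * x)
include hS h2

/-- two distinct involutions of the point stabiliser -/
lemma exists_two_invols : ∃ s s' : G, s ≠ s' ∧
    s ∈ Cfsg.involutionsIn (stabilizer G a : Set G) ∧
    s' ∈ Cfsg.involutionsIn (stabilizer G a : Set G) := by
  obtain ⟨x, y, hx, hy, hne, hxx, hyy, hxy⟩ := h2
  obtain ⟨c, hc⟩ := exists_fixed hS hxx
  obtain ⟨g, hg⟩ := exists_smul hS c
  have hyc : y • c = c := commute_fixed hS hx hxx hxy.symm hc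
  have hm : ∀ {z : G}, z ≠ 1 → z * z = 1 → z • c = c →
      g⁻¹ * z * g ∈ Cfsg.involutionsIn (stabilizer G a : Set G) := fun {z} hz hzz hzc =>
    mem_invols.2 ⟨by rw [mul_smul, mul_smul, hg, hzc, ← hg, inv_smul_smul], conj_ne_one' hz g, by
      calc g⁻¹ * z * g * (g⁻¹ * z * g) = g⁻¹ * (z * z) * g := by group
        _ = 1 := by rw [hzz]; group⟩
  exact ⟨_, _, fun e => hne (mul_left_cancel (mul_right_cancel e)), hm hx hxx hc, hm hy hyy hyc⟩

/-- `K` is not trivial -/
lemma exists_invSet_ne_one : ∃ k ∈ invSet G a t, k ≠ 1 := by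
  obtain ⟨s, s', hne, hs, hs'⟩ := exists_two_invols hS h2
  obtain ⟨e, he⟩ := conj_invol_bijective hS hs
  refine ⟨_, (e.symm ⟨s', hs'⟩).2, fun h => hne ?_⟩
  have h1 := he (e.symm ⟨s', hs'⟩)
  rw [Equiv.apply_symm_apply, h] at h1
  simpa using h1.symm

lemma pow_mem_invSet {k : G} (hk : k ∈ invSet G a t) (n : ℕ) : k ^ n ∈ invSet G a t := by
  rw [mem_invSet hS] at hk ⊢
  refine ⟨pow_mem hk.1 n, ?_⟩
  induction n with
  | zero => rw [pow_zero, mul_one, hS.mul_self, inv_one]
  | succ n ih => rw [pow_succ, conj_t_mul hS, ih, hk.2, ← mul_inv_rev, ← pow_succ', pow_succ]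

/-- `Q` is nilpotent -/
theorem isNilpotent_Q : Group.IsNilpotent Q := by
  obtain ⟨k, hk, hk1⟩ := exists_invSet_ne_one hS h2
  obtain ⟨r, hr, hrd⟩ := Nat.exists_prime_and_dvd (fun e => hk1 (orderOf_eq_one_iff.1 e))
  set x := k ^ (orderOf k / r) with hxdef
  have hxo : orderOf x = r := orderOf_pow_orderOf_div (orderOf_pos k).ne' hrd
  have hxK : x ∈ invSet G a t := pow_mem_invSet hS h2 hk _
  have hx1 : x ≠ 1 := fun e => hr.ne_one (by rw [← hxo, e, orderOf_one])
  have hxa : x • a = a := ((mem_invSet hS).1 hxK).1.1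
  let φ : MulAut Q :=
    { toFun := fun q => ⟨x * q * x⁻¹, Q_conj hS hxa q.2⟩
      invFun := fun q => ⟨x⁻¹ * q * x, by
        have := Q_conj hS (g := x⁻¹) (inv_smul_eq_iff.2 hxa.symm) q.2
        simpa using this⟩
      left_inv := fun q => Subtype.ext (by simp [mul_assoc])
      right_inv := fun q => Subtype.ext (by simp [mul_assoc])
      map_mul' := fun q q' => Subtype.ext (by simp [mul_assoc]) }
  have hfpf : ∀ q : Q, φ q = q → q = 1 := by
    intro q hq
    have h1 : x * (q : G) = q * x := mul_inv_eq_iff_eq_mul.1 (congrArg Subtype.val hq)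
    have hfix : x • (q : G) • t • a = (q : G) • t • a := by
      rw [smul_smul, h1, mul_smul, (mem_twoPt.1 ((mem_invSet hS).1 hxK).1).2]
    rcases invSet_fixes_two hS hxK hx1 hfix with h | h
    · exact absurd (smul_left_cancel (q : G) (h.trans (Q_smul hS q.2).symm)) (ta_ne hS)
    · exact Subtype.ext (eq_one_of_mem_Q hS q.2 h)
  have hpow : ∀ (n : ℕ) (q : Q), (((φ ^ n) q : Q) : G) = x ^ n * q * (x ^ n)⁻¹ := by
    intro n
    induction n with
    | zero => intro q; simp
    | succ n ih =>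
      intro q
      rw [pow_succ' φ, MulAut.mul_apply]
      show x * ((φ ^ n) q : Q) * x⁻¹ = _
      rw [ih q, pow_succ' x]
      group
  haveI := Fact.mk hr
  have hne : φ ≠ 1 := by
    intro e
    haveI : Nontrivial Q := by
      rw [← Finite.one_lt_card_iff_nontrivial]
      obtain ⟨j, hj⟩ := hS.even_card
      have := Nat.card_pos (α := Q)
      omega
    obtain ⟨q, hq⟩ := exists_ne (1 : Q)
    exact hq (hfpf q (by rw [e]; rfl))
  refine Frobenius.Thompson.isNilpotent_of_orderOf φ (fun q hq => hfpf q hq) hr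
    (orderOf_eq_prime (MulEquiv.ext fun q => Subtype.ext ?_) hne)
  rw [hpow, ← hxo, pow_orderOf_eq_one]
  simp

/-- the involutions of the point stabiliser are central in `Q` -/
theorem invol_central {s : G} (hs : s ∈ Cfsg.involutionsIn (stabilizer G a : Set G)) :
    s ∈ Q ∧ ∀ x ∈ Q, s * x = x * s := by
  haveI := isNilpotent_Q hS h2
  haveI : Fact (Nat.Prime 2) := ⟨Nat.prime_two⟩
  obtain ⟨S⟩ := (inferInstance : Nonempty (Sylow 2 Q))
  haveI : (S : Subgroup Q).Normal := inferInstance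
  have hne : (S : Subgroup Q) ≠ ⊥ := by
    refine S.ne_bot_of_dvd_card ?_
    exact hS.even_card.two_dvd
  have hzc := OddOrder.PuigSeries.inf_center_ne_bot (S : Subgroup Q) hne
  haveI : Nontrivial (Subgroup.center Q ⊓ S : Subgroup Q) := (Subgroup.nontrivial_iff_ne_bot _).2 hzc
  have hp : IsPGroup 2 (Subgroup.center Q ⊓ S : Subgroup Q) := S.isPGroup'.to_le inf_le_right
  obtain ⟨n, hn, hcard⟩ := (IsPGroup.nontrivial_iff_card hp).1 inferInstance
  obtain ⟨z, hz⟩ := exists_prime_orderOf_dvd_card' 2 (hcard ▸ dvd_pow_self 2 hn.ne')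
  have hz2 : ((z : Q) : G) * (z : Q) = 1 := by
    have : z * z = 1 := by
      have h' := pow_orderOf_eq_one z
      rwa [hz, pow_two] at h'
    exact congrArg (fun w : (Subgroup.center Q ⊓ S : Subgroup Q) => ((w : Q) : G)) this
  have hz1 : ((z : Q) : G) ≠ 1 := fun e => by
    have : z = 1 := Subtype.ext (Subtype.ext e)
    rw [this, orderOf_one] at hz
    exact absurd hz (by norm_num)
  obtain ⟨e, he⟩ := conj_invol_bijective hS (s := ((z : Q) : G))
    (mem_invols.2 ⟨Q_smul hS (z : Q).2, hz1, hz2⟩)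
  obtain ⟨k, hk⟩ := e.surjective ⟨s, hs⟩
  have hsk : (k : G)⁻¹ * ((z : Q) : G) * k = s := (he k).symm.trans (congrArg Subtype.val hk)
  have hka : (k : G) • a = a := ((mem_invSet hS).1 k.2).1.1
  refine ⟨inv_mem_Q_of_fixed hS (mem_invols.1 hs).2.2 (mem_invols.1 hs).1, fun x hx => ?_⟩
  have hx' := Q_conj hS hka hx
  have hc : (k : G) * x * (k : G)⁻¹ * ((z : Q) : G) = ((z : Q) : G) * ((k : G) * x * (k : G)⁻¹) :=
    congrArg Subtype.val (Subgroup.mem_center_iff.1 z.2.1 ⟨_, hx'⟩)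
  rw [← hsk]
  calc (k : G)⁻¹ * ((z : Q) : G) * k * x
      = (k : G)⁻¹ * (((z : Q) : G) * ((k : G) * x * (k : G)⁻¹)) * k := by group
    _ = (k : G)⁻¹ * ((k : G) * x * (k : G)⁻¹ * ((z : Q) : G)) * k := by rw [hc]
    _ = _ := by group

/-- with `1` they form a subgroup -/
theorem invol_mul {s s' : G} (hs : s ∈ Cfsg.involutionsIn (stabilizer G a : Set G))
    (hs' : s' ∈ Cfsg.involutionsIn (stabilizer G a : Set G)) :
    s * s' = 1 ∨ s * s' ∈ Cfsg.involutionsIn (stabilizer G a : Set G) := by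
  by_cases h : s * s' = 1
  · exact Or.inl h
  refine Or.inr (mem_invols.2 ⟨by rw [mul_smul, (mem_invols.1 hs').1, (mem_invols.1 hs).1], h, ?_⟩)
  have hc := (invol_central hS h2 hs).2 s' (invol_central hS h2 hs').1
  calc s * s' * (s * s') = (s * s) * (s' * s') := (show Commute s s' from hc).symm.mul_mul_mul_comm s s'
    _ = 1 := by rw [(mem_invols.1 hs).2.2, (mem_invols.1 hs').2.2, mul_one]

end CfsgLib.RankOneInvol
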